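import Groth.Agent.TateLoc.K770.InsepKer
import Groth.Agent.TateGlob.K827.FrobBase
import Groth.Agent.AlgGrp.K404.EtConn
import Groth.Agent.FGA.K275.IdProper
import Groth.Prelude.Def_ActBC
import Mathlib.FieldTheory.PurelyInseparable.Exponent

/-!
# A finite quotient after a Frobenius base change (helper754)

`G` commutative of finite type over a field of characteristic `p`. If `G` is not both smooth and connected then for some
`n` the base change of `G` along the `n`-th power of the Frobenius of the field has a nontrivial homomorphism to a finite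
commutative group scheme.
-/

set_option autoImplicit false
universe u
open CategoryTheory CategoryTheory.Limits MonoidalCategory CartesianMonoidalCategory MonObj GrpObj AlgebraicGeometry Opposite

namespace K754.FrobQ

open K770.RedSub Groth.Agent.Sga3.H830.AlgGrpAb

variable {K : Type u} [Field K]

theorem locallyQuasiFinite_of_etale {N : Scheme.{u}} (f : N ⟶ Spec (CommRingCat.of K)) [Etale f] : LocallyQuasiFinite f where
  quasiFinite_appLE {U} hU {V} hV e := by
    have h1 := f.finiteType_appLE hU hV e
    have h2 := f.formallyUnramified_appLE hU hV e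
    algebraize [(f.appLE U V e).hom]
    exact inferInstanceAs (Algebra.QuasiFinite _ _)

/-- The quotient of a commutative algebraic group by a closed subgroup, with commutativity. -/
theorem exists_quot (F G : Over (Spec (CommRingCat.of K))) [GrpObj F] [GrpObj G] [IsCommMonObj G]
    [LocallyOfFiniteType G.hom] [QuasiCompact G.hom] (j : F ⟶ G) [IsMonHom j] [IsClosedImmersion j.left] :
    ∃ (Q : Over (Spec (CommRingCat.of K))) (_ : GrpObj Q) (_ : IsCommMonObj Q) (q : G ⟶ Q) (_ : IsMonHom q),
      Flat q.left ∧ Surjective q.left ∧ LocallyOfFinitePresentation q.left ∧ QuasiCompact q.left ∧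
      AlgGrp.IsKernel j q ∧ LocallyOfFiniteType Q.hom ∧ QuasiCompact Q.hom := by
  have hG : IsAlg G := ⟨inferInstance, inferInstance⟩
  have hmono : Mono j := Over.mono_of_mono_left j
  have hF : IsAlg F := isAlg_of_isClosedImmersion j hG
  obtain ⟨Q, gQ, q, hq, ⟨hfl, hsj, hlfp⟩, hker, hQl, hQq⟩ := exists_quotient hF hG j
  have hqc : QuasiCompact q.left := quasiCompact_left hG ⟨hQl, hQq⟩ q
  have hcQ : IsCommMonObj Q := by
    have hst : MorphismProperty.IsStableUnderComposition (@Surjective : MorphismProperty Scheme.{u}) :=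
      ⟨fun f g hf hg => ⟨hg.surj.comp hf.surj⟩⟩
    have h2f : Flat (q ⊗ₘ q).left := K404.Desc.tensorHom_left_of (@Flat) q q ‹_› ‹_›
    have h2s : Surjective (q ⊗ₘ q).left := K404.Desc.tensorHom_left_of (@Surjective) q q ‹_› ‹_›
    have h2c : QuasiCompact (q ⊗ₘ q).left :=
      K404.Desc.tensorHom_left_of (@QuasiCompact) q q inferInstance inferInstance
    have := K404.Desc.epi_of (q ⊗ₘ q)
    exact K809.FieldSeq.isCommMonObj_of_epi q
  exact ⟨Q, gQ, hcQ, q, hq, hfl, hsj, hlfp, hqc, hker, hQl, hQq⟩

/-- If the quotient map is trivial then the subgroup is everything. -/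
theorem isIso_of_eq_one {F G Q : Over (Spec (CommRingCat.of K))} [GrpObj Q] {j : F ⟶ G} {q : G ⟶ Q} [Mono j]
    (hker : AlgGrp.IsKernel j q) (h : q = 1) : IsIso j := by
  obtain ⟨s, hs⟩ := K404.Desc.exists_lift_ker hker (𝟙 G) (by rw [Category.id_comp, h])
  refine ⟨s, ?_, hs⟩
  rw [← cancel_mono j, Category.assoc, hs, Category.comp_id, Category.id_comp]

/-- A disconnected commutative group scheme of finite type has a nontrivial finite quotient. -/
theorem exists_of_disconnected (G : Over (Spec (CommRingCat.of K))) [GrpObj G] [IsCommMonObj G]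
    [LocallyOfFiniteType G.hom] [QuasiCompact G.hom] (h : ¬ ConnectedSpace G.left) :
    ∃ (J : Over (Spec (CommRingCat.of K))) (_ : GrpObj J) (_ : IsCommMonObj J) (_ : IsFinite J.hom)
      (β : G ⟶ J) (_ : IsMonHom β), β ≠ 1 := by
  obtain ⟨G0, gG0, i, hi, hic, hio, -, -, hconn, -⟩ := K275.IdProper.exists_idComp K G
  have hmono : Mono i := Over.mono_of_mono_left i
  obtain ⟨Q, gQ, cQ, q, hq, hfl, hsj, hlfp, hqc, hker, hQl, hQq⟩ := exists_quot G0 G i
  have hsq : IsPullback i.left (toUnit G0).left q.left η[Q].left := hker.map (Over.forget _)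
  have hη : IsOpenImmersion (η[Q] : 𝟙_ (Over (Spec (CommRingCat.of K))) ⟶ Q).left := by
    have hb : MorphismProperty.DescendsAlong (@IsOpenImmersion) (@Surjective ⊓ @Flat ⊓ @QuasiCompact) := inferInstance
    exact MorphismProperty.of_isPullback_of_descendsAlong (P := @IsOpenImmersion)
      (Q := @Surjective ⊓ @Flat ⊓ @QuasiCompact) hsq ⟨⟨hsj, hfl⟩, hqc⟩ hio
  have het : Etale Q.hom := K404.EtConn.etale_of_isOpenImmersion_one K Q hη
  have hlqf := locallyQuasiFinite_of_etale Q.hom
  have hfin : IsFinite Q.hom := IsFinite.of_locallyQuasiFinite Q.hom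
  refine ⟨Q, gQ, cQ, hfin, q, hq, fun h1 => h ?_⟩
  have hiso := isIso_of_eq_one hker h1
  have hiso' : IsIso i.left := inferInstanceAs (IsIso ((Over.forget _).map i))
  have : Surjective i.left := inferInstance
  exact (i.left.surjective.connectedSpace i.left.continuous)

variable (p : ℕ) [Fact p.Prime] [CharP K p]

/-- A non-smooth commutative group scheme of finite type: after a Frobenius base change there is a nontrivial infinitesimal
quotient. -/
theorem exists_of_not_smooth (G : Over (Spec (CommRingCat.of K))) [GrpObj G] [IsCommMonObj G]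
    [LocallyOfFiniteType G.hom] [QuasiCompact G.hom] (h : ¬ Smooth G.hom) :
    ∃ (n : ℕ) (J : Over (Spec (CommRingCat.of K))) (_ : GrpObj J) (_ : IsCommMonObj J) (_ : IsFinite J.hom)
      (β : Red.bc (Spec.map (CommRingCat.ofHom (iterateFrobenius K p n))) G ⟶ J) (_ : IsMonHom β), β ≠ 1 := by
  obtain ⟨k', _, _, hfd, hpi, F, gF, j₀, hj, hjc, hjs, hsm, hFr⟩ := exists_smooth_red G
  have hexp : ExpChar K p := ExpChar.prime Fact.out
  let n := IsPurelyInseparable.exponent K k'
  let σ : k' →+* K := IsPurelyInseparable.iterateFrobenius K k' p (le_refl n)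
  have hσ : σ.comp (algebraMap K k') = iterateFrobenius K p n := by
    ext a
    rw [RingHom.comp_apply, iterateFrobenius_def]
    exact IsPurelyInseparable.iterateFrobenius_algebraMap k' p (le_refl n) a
  let s := Spec.map (CommRingCat.ofHom σ)
  let t := Spec.map (CommRingCat.ofHom (iterateFrobenius K p n))
  have hst : s ≫ bs K k' = t := by
    rw [← Spec.map_comp, ← CommRingCat.ofHom_comp, hσ]
  let G' := Red.bc t G
  let F' := Red.bc s F
  have hlG' : LocallyOfFiniteType G'.hom := inferInstanceAs (LocallyOfFiniteType (pullback.snd _ _))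
  have hqG' : QuasiCompact G'.hom := inferInstanceAs (QuasiCompact (pullback.snd _ _))
  obtain ⟨e, he⟩ : ∃ e : Red.bc s (Red.bc (bs K k') G) ≅ G', IsMonHom e.hom :=
    ⟨ActBC.bcCompIso s (bs K k') G hst, inferInstance⟩
  let j : F' ⟶ G' := (Over.pullback s).map j₀ ≫ e.hom
  have hsq := Groth.Agent.Grpsch.AbBC.isPullback_pullback_map s j₀
  have hei : IsIso e.hom.left := inferInstanceAs (IsIso ((Over.forget _).map e.hom))
  have h2 : IsClosedImmersion ((Over.pullback s).map j₀).left := MorphismProperty.of_isPullback hsq.flip hjc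
  have h3 : Surjective ((Over.pullback s).map j₀).left := MorphismProperty.of_isPullback hsq.flip hjs
  have hjc' : IsClosedImmersion j.left := by
    rw [Over.comp_left]; infer_instance
  have hjs' : Surjective j.left := by
    rw [Over.comp_left]; infer_instance
  have hjm : IsMonHom j := inferInstanceAs (IsMonHom ((Over.pullback s).map j₀ ≫ e.hom))
  have hmono : Mono j := Over.mono_of_mono_left j
  obtain ⟨Q, gQ, cQ, q, hq, hfl, hsj, hlfp, hqc, hker, hQl, hQq⟩ := exists_quot F' G' j
  have hsub : Subsingleton Q.left := K770.InsepKer.subsingleton_of_kernel j q (K404.Desc.ker_eq_one hker)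
  have hfin : IsFinite Q.hom := Groth.Agent.S6084.finite_of_subsingleton K Q.left Q.hom
  refine ⟨n, Q, gQ, cQ, hfin, q, hq, fun h1 => h ?_⟩
  have hiso := isIso_of_eq_one hker h1
  have hiso' : IsIso j.left := inferInstanceAs (IsIso ((Over.forget _).map j))
  have hF' : Smooth F'.hom := inferInstanceAs (Smooth (pullback.snd F.hom s))
  have hG' : Smooth G'.hom := by
    have h4 : (inv j.left) ≫ F'.hom = G'.hom := by rw [IsIso.inv_comp_eq, Over.w]
    rw [← h4]
    infer_instance
  have h9 : Smooth (pullback.snd G.hom t) := hG'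
  have htf : Flat t := flat_of_field t
  have hts : Surjective t := by
    refine ⟨fun a => ⟨IsLocalRing.closedPoint K, ?_⟩⟩
    have : Subsingleton (PrimeSpectrum K) := inferInstance
    exact this.elim _ _
  exact MorphismProperty.of_pullback_snd_of_descendsAlong (P := @Smooth) (Q := @Surjective ⊓ @Flat ⊓ @QuasiCompact)
    ⟨⟨hts, htf⟩, inferInstance⟩ h9

/-- If `G` is not both smooth and connected then after a Frobenius base change it has a nontrivial finite quotient. -/
theorem exists_hom (G : Over (Spec (CommRingCat.of K))) [GrpObj G] [IsCommMonObj G]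
    [LocallyOfFiniteType G.hom] [QuasiCompact G.hom] (h : ¬ (Smooth G.hom ∧ ConnectedSpace G.left)) :
    ∃ (n : ℕ) (J : Over (Spec (CommRingCat.of K))) (_ : GrpObj J) (_ : IsCommMonObj J) (_ : IsFinite J.hom)
      (β : Red.bc (Spec.map (CommRingCat.ofHom (iterateFrobenius K p n))) G ⟶ J) (_ : IsMonHom β), β ≠ 1 := by
  by_cases hs : Smooth G.hom
  · have hc : ¬ ConnectedSpace G.left := fun hc => h ⟨hs, hc⟩
    let t := Spec.map (CommRingCat.ofHom (iterateFrobenius K p 0))
    have ht : IsIso t := by
      have h0 : iterateFrobenius K p 0 = RingHom.id K := by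
        ext a
        simp
      have h1 : t = 𝟙 _ := by
        rw [← Spec.map_id, ← CommRingCat.ofHom_id, ← h0]
      rw [h1]
      infer_instance
    have hl : LocallyOfFiniteType (Red.bc t G).hom := inferInstanceAs (LocallyOfFiniteType (pullback.snd _ _))
    have hq : QuasiCompact (Red.bc t G).hom := inferInstanceAs (QuasiCompact (pullback.snd _ _))
    refine ⟨0, exists_of_disconnected (Red.bc t G) fun hc' => hc ?_⟩
    have hs' : Surjective (pullback.fst G.hom t) := inferInstance
    have hc'' : ConnectedSpace ↥(pullback G.hom t) := hc'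
    exact hs'.surj.connectedSpace (pullback.fst G.hom t).continuous
  · exact exists_of_not_smooth p G hs

end K754.FrobQ
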